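import Groth.Agent.EtTraceLib.DixEasy
import Groth.Agent.EtTraceLib.PicEtale
import Groth.Agent.RegLocal.UFD
import Groth.Agent.ParaFLib.UFD

/-!
# `H¹` of roots of unity on the complement of a regular parameter
-/

set_option autoImplicit false
set_option backward.isDefEq.respectTransparency false
set_option backward.isDefEq.respectTransparency.types false
set_option linter.style.haveILetI false

universe u

open CategoryTheory CategoryTheory.Limits AlgebraicGeometry Opposite CategoryTheory.Abelian IsLocalRing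

noncomputable section

namespace Groth.Agent.EtPunct

/-- Units of a strictly henselian local ring are powers. -/
theorem exists_pow_eq_unit {A : Type u} [CommRing A] [HenselianLocalRing A] [IsSepClosed (ResidueField A)]
    {n : ℕ} (hn : IsUnit (n : A)) (u : Aˣ) : ∃ w : Aˣ, w ^ n = u := by
  have hn0 : n ≠ 0 := by
    rintro rfl
    rw [Nat.cast_zero] at hn
    exact not_isUnit_zero hn
  have hnk : IsUnit ((n : ℕ) : ResidueField A) := by rw [← map_natCast (residue A)]; exact hn.map _
  haveI : NeZero ((n : ℕ) : ResidueField A) := ⟨hnk.ne_zero⟩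
  obtain ⟨c, hc⟩ := IsSepClosed.exists_pow_nat_eq (residue A (u : A)) n
  obtain ⟨c, rfl⟩ := residue_surjective c
  have hc0 : IsUnit c := by
    rw [← residue_ne_zero_iff_isUnit]
    intro h
    rw [h, zero_pow hn0] at hc
    exact (residue_ne_zero_iff_isUnit _).mpr u.isUnit hc.symm
  obtain ⟨a, ha, -⟩ := HenselianLocalRing.is_henselian (Polynomial.X ^ n - Polynomial.C (u : A))
    (Polynomial.monic_X_pow_sub_C _ hn0) c
    (by rw [← residue_eq_zero_iff]; simp [hc])
    (by
      simp only [Polynomial.derivative_sub, Polynomial.derivative_X_pow, Polynomial.derivative_C, sub_zero,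
        Polynomial.eval_mul, Polynomial.eval_C, Polynomial.eval_pow, Polynomial.eval_X]
      exact hn.mul (hc0.pow _))
  simp only [Polynomial.IsRoot.def, Polynomial.eval_sub, Polynomial.eval_pow, Polynomial.eval_X,
    Polynomial.eval_C, sub_eq_zero] at ha
  have : IsUnit a := by rw [← isUnit_pow_iff hn0, ha]; exact u.isUnit
  exact ⟨this.unit, Units.ext (by simpa using ha)⟩

/-- An element outside the square of the maximal ideal of a factorial local ring is prime. -/
theorem prime_of_notMem_sq {A : Type u} [CommRing A] [IsDomain A] [IsLocalRing A] [UniqueFactorizationMonoid A]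
    {x : A} (hx : x ∈ maximalIdeal A) (hx2 : x ∉ maximalIdeal A ^ 2) : Prime x := by
  refine UniqueFactorizationMonoid.irreducible_iff_prime.1 ⟨(mem_maximalIdeal x).1 hx, fun a b hab => ?_⟩
  by_contra h
  rw [not_or] at h
  exact hx2 (hab ▸ pow_two (maximalIdeal A) ▸ Ideal.mul_mem_mul ((mem_maximalIdeal a).2 h.1) ((mem_maximalIdeal b).2 h.2))

section

variable {A : Type u} [CommRing A] [IsDomain A] {x : A} (hp : Prime x)

/-- The parameter as a unit of the localisation. -/
def xUnit : (Localization.Away x)ˣ := (IsLocalization.Away.algebraMap_isUnit x).unit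

/-- A unit of `A` as a unit of the localisation. -/
abbrev aUnit : Aˣ →* (Localization.Away x)ˣ := Units.map (algebraMap A (Localization.Away x)).toMonoidHom

include hp in
theorem exists_unit_mul_zpow (u : (Localization.Away x)ˣ) :
    ∃ (a : Aˣ) (k : ℤ), u = aUnit a * xUnit (x := x) ^ k := by
  have hinj : Function.Injective (algebraMap A (Localization.Away x)) :=
    IsLocalization.injective _ (powers_le_nonZeroDivisors_of_noZeroDivisors hp.ne_zero)
  obtain ⟨p, a, hpa⟩ := IsLocalization.Away.surj x (u : Localization.Away x)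
  obtain ⟨q, b, hqb⟩ := IsLocalization.Away.surj x ((u⁻¹ : (Localization.Away x)ˣ) : Localization.Away x)
  have hab : a * b = x ^ (p + q) := hinj (by
    rw [map_mul, map_pow, ← hpa, ← hqb, pow_add]
    calc _ = ((u : Localization.Away x) * ((u⁻¹ : (Localization.Away x)ˣ) : Localization.Away x)) *
          (algebraMap A _ x ^ p * algebraMap A _ x ^ q) := by ring
      _ = _ := by rw [Units.mul_inv, one_mul])
  obtain ⟨i, -, hi⟩ := (dvd_prime_pow hp _).1 ⟨b, hab.symm⟩
  obtain ⟨w, hw⟩ := hi.symm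
  refine ⟨w, (i : ℤ) - p, ?_⟩
  rw [zpow_sub, zpow_natCast, zpow_natCast, ← mul_assoc, eq_mul_inv_iff_mul_eq]
  refine Units.ext ?_
  simp only [Units.val_mul, Units.val_pow_eq_pow_val, xUnit, IsUnit.unit_spec, Units.coe_map]
  rw [hpa, ← hw, map_mul, map_pow, mul_comm]
  rfl

include hp in
theorem dvd_of_zpow_eq_pow {n : ℕ} (hn : 0 < n) {k : ℤ} {u : (Localization.Away x)ˣ}
    (h : xUnit (x := x) ^ k = u ^ n) : (n : ℤ) ∣ k := by
  have hinj : Function.Injective (algebraMap A (Localization.Away x)) :=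
    IsLocalization.injective _ (powers_le_nonZeroDivisors_of_noZeroDivisors hp.ne_zero)
  obtain ⟨a, j, rfl⟩ := exists_unit_mul_zpow hp u
  rw [mul_pow, ← zpow_natCast (xUnit (x := x) ^ j), ← zpow_mul, ← map_pow, ← mul_inv_eq_iff_eq_mul, ← zpow_sub] at h
  refine ⟨j, ?_⟩
  suffices hz : ∀ (d : ℤ) (e : Aˣ), xUnit (x := x) ^ d = aUnit e → d = 0 by
    have := hz _ _ h
    linarith
  have hnat : ∀ (d : ℕ) (e : Aˣ), xUnit (x := x) ^ d = aUnit e → d = 0 := fun d e hde => by
    by_contra hd
    have h1 := congrArg (fun v : (Localization.Away x)ˣ => (v : Localization.Away x)) hde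
    simp only [Units.val_pow_eq_pow_val, xUnit, IsUnit.unit_spec, Units.coe_map, ← map_pow] at h1
    exact hp.not_unit (isUnit_of_dvd_unit (dvd_pow_self x hd) ((hinj h1) ▸ e.isUnit))
  intro d e hde
  obtain ⟨d, rfl | rfl⟩ := d.eq_nat_or_neg
  · rw [zpow_natCast] at hde; rw [hnat d e hde, Nat.cast_zero]
  · rw [zpow_neg, zpow_natCast, inv_eq_iff_eq_inv, ← map_inv] at hde
    rw [hnat d e⁻¹ hde, Nat.cast_zero, neg_zero]

end

theorem picTrivial_away {A : Type u} [CommRing A] [IsDomain A] [IsNoetherianRing A] [UniqueFactorizationMonoid A]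
    (x : A) : ParaF.PicTrivial (Spec (CommRingCat.of (Localization.Away x))) := by
  haveI : IsDomain (CommRingCat.of A) := ‹IsDomain A›
  haveI : UniqueFactorizationMonoid (CommRingCat.of A) := ‹UniqueFactorizationMonoid A›
  exact ParaFLib.picTrivial_of_iso (basicOpenIsoSpecAway (R := CommRingCat.of A) x).symm
    (ParaFLib.picTrivial_of_ufd (R := CommRingCat.of A) _)

section Kummer

variable {X : Scheme.{u}} (n : ℕ)

/-- Cohomology in degree one of roots of unity when units and invertible modules are simple. -/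
theorem nonempty_H1_mu_equiv (hE : Epi (EtCoh.powMap X n))
    (hpic : ∀ L : X.Modules, PicF.IsInvertible L → Nonempty (L ≅ Coh.structureModule X))
    (t : Γ(X, ⊤)ˣ) (hgen : ∀ u : Γ(X, ⊤)ˣ, ∃ (v : Γ(X, ⊤)ˣ) (k : ℤ), u = v ^ n * t ^ k)
    (hker : ∀ (k : ℤ) (u : Γ(X, ⊤)ˣ), t ^ k = u ^ n → (n : ℤ) ∣ k) :
    Nonempty (EtCoh.H X (EtCoh.mu X n) 1 ≃+ ZMod n) := by
  haveI : Subsingleton (EtCoh.H X (EtCoh.Gm X) 1) := (EtTraceLib.subsingleton_H1_Gm_iff X).2 hpic
  have hS := EtSix.kummerShortExact (X := X) (n := n) hE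
  let δ := EtSix.kummerBoundary hE 0
  have hδ : ∀ y, ∃ h, δ h = y := fun y =>
    Ext.covariant_sequence_exact₁ _ hS y (Subsingleton.elim (α := EtCoh.H X (EtCoh.Gm X) 1) _ _) (n₀ := 0) rfl
  let e := CategoryTheory.Sheaf.H.equiv₀ (EtCoh.Gm X) (EtCore.topIsTerminal X)
  let ι₀ : Γ(X, ⊤)ˣ → EtCoh.H X (EtCoh.Gm X) 0 := fun u => e.symm (ULift.up (Additive.ofMul u))
  have hι₀ : Function.Bijective ι₀ := e.symm.bijective.comp (ULift.up_bijective.comp Additive.ofMul.bijective)
  let c : Additive Γ(X, ⊤)ˣ →+ EtCoh.H X (EtCoh.Gm X) 0 :=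
    e.symm.toAddMonoidHom.comp
      ((AddEquiv.ulift.symm : Additive Γ(X, ⊤)ˣ ≃+ ULift.{u + 1} (Additive Γ(X, ⊤)ˣ))).toAddMonoidHom
  have hc : ∀ u, c (Additive.ofMul u) = ι₀ u := fun u => rfl
  have hker' : ∀ h, δ h = 0 ↔ ∃ z, n • z = h := fun h => by
    constructor
    · intro hh
      obtain ⟨z, hz⟩ := Ext.covariant_sequence_exact₃ _ hS h (n₁ := 1) rfl hh
      exact ⟨z, (EtTraceLib.comp_mk₀_nsmul_id n z).symm.trans hz⟩
    · rintro ⟨z, rfl⟩
      show (n • z).comp hS.extClass rfl = 0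
      have hpow : z.comp (Ext.mk₀ (EtSix.kummerSC X n).g) (add_zero 0) = n • z := EtTraceLib.comp_mk₀_nsmul_id n z
      rw [← hpow, Ext.comp_assoc_of_second_deg_zero, hS.comp_extClass, Ext.comp_zero]
  let φ : ℤ →+ EtCoh.H X (EtCoh.mu X n) 1 := zmultiplesHom _ (δ (c (Additive.ofMul t)))
  have hφ : ∀ k, φ k = δ (c (Additive.ofMul (t ^ k))) := fun k => by
    show k • δ _ = _
    rw [ofMul_zpow, map_zsmul, map_zsmul]
  have hsurj : Function.Surjective φ := fun y => by
    obtain ⟨h, rfl⟩ := hδ y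
    obtain ⟨u, rfl⟩ := hι₀.2 h
    obtain ⟨v, k, rfl⟩ := hgen u
    refine ⟨k, ?_⟩
    rw [hφ, ← hc (v ^ n * t ^ k), ofMul_mul, map_add, map_add, ofMul_pow, map_nsmul,
      (hker' _).2 ⟨_, rfl⟩]
    exact (zero_add _).symm
  have hk : φ.ker = AddSubgroup.zmultiples (n : ℤ) := by
    ext k
    rw [AddMonoidHom.mem_ker, hφ, hker', Int.mem_zmultiples_iff]
    constructor
    · rintro ⟨z, hz⟩
      obtain ⟨u, rfl⟩ := hι₀.2 z
      refine hker k u (hι₀.1 ?_)
      rw [← hc, ← hc, ofMul_pow, map_nsmul, hc u, hz]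
    · rintro ⟨j, rfl⟩
      refine ⟨c (Additive.ofMul (t ^ j)), ?_⟩
      rw [← map_nsmul, ← ofMul_pow, ← zpow_natCast, ← zpow_mul, mul_comm]
  exact ⟨((QuotientAddGroup.quotientKerEquivOfSurjective φ hsurj).symm.trans
    (QuotientAddGroup.quotientAddEquivOfEq hk)).trans (Int.quotientZMultiplesNatEquivZMod n)⟩

end Kummer

theorem nonempty_H1_mu_away (A : Type u) [CommRing A] [IsRegularLocalRing A]
    (hA : EtCoh.IsStrictlyHenselianLocalRing A) (x : A) (hx : x ∈ maximalIdeal A)
    (hx2 : x ∉ (maximalIdeal A) ^ 2) (n : ℕ) (hn : IsUnit (n : A)) :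
    Nonempty (EtCoh.H (Spec (CommRingCat.of (Localization.Away x)))
      (EtCoh.mu (Spec (CommRingCat.of (Localization.Away x))) n) 1 ≃+ ZMod n) := by
  obtain ⟨hH, hs⟩ := hA
  haveI := hs
  haveI : IsDomain A := RegLocal.isDomain A
  haveI : UniqueFactorizationMonoid A := RegLocal.ufd A
  have hp := prime_of_notMem_sq hx hx2
  have hn0 : 0 < n := Nat.pos_of_ne_zero fun h => by subst h; rw [Nat.cast_zero] at hn; exact not_isUnit_zero hn
  let g := Units.mapEquiv ((Scheme.ΓSpecIso (CommRingCat.of (Localization.Away x))).symm.commRingCatIsoToRingEquiv.toMulEquiv)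
  refine nonempty_H1_mu_equiv n (S0108.result _ n ?_) (picTrivial_away x) (g (xUnit (x := x))) (fun u => ?_) fun k u h => ?_
  · have := (hn.map (algebraMap A (Localization.Away x))).map (Scheme.ΓSpecIso (CommRingCat.of (Localization.Away x))).inv.hom
    simpa using this
  · obtain ⟨u, rfl⟩ := g.surjective u
    obtain ⟨a, k, rfl⟩ := exists_unit_mul_zpow hp u
    obtain ⟨w, rfl⟩ := exists_pow_eq_unit hn a
    exact ⟨g (aUnit w), k, by rw [map_pow, map_mul, map_pow, map_zpow]⟩
  · obtain ⟨u, rfl⟩ := g.surjective u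
    rw [← map_zpow, ← map_pow] at h
    exact dvd_of_zpow_eq_pow hp hn0 (g.injective h)

end Groth.Agent.EtPunct
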